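import Mathlib

set_option autoImplicit false
universe u

namespace Groth.Agent.H90c8

variable (K L : Type u) [Field K] [Field L] [Algebra K L]

theorem exists_finite_galois_level [IsSepClosure K L] {α : Type u} (a : (L ≃ₐ[K] L) → α) (hlc : IsLocallyConstant a) :
    ∃ E : IntermediateField K L, FiniteDimensional K E ∧ IsGalois K E ∧
      ∀ σ ∈ E.fixingSubgroup, a σ = a 1 := by
  haveI : IsGalois K L := IsSepClosure.isGalois
  have hnhds : {σ | a σ = a 1} ∈ nhds (1 : L ≃ₐ[K] L) := (hlc {a 1}).mem_nhds rfl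
  rw [krullTopology_mem_nhds_one_iff] at hnhds
  obtain ⟨E, hE, hsub⟩ := hnhds
  haveI := hE
  refine ⟨IntermediateField.normalClosure K E L, inferInstance, inferInstance, fun σ hσ => hsub ?_⟩
  exact IntermediateField.fixingSubgroup_antitone (IntermediateField.le_normalClosure E) hσ

theorem mem_of_fixed [IsGalois K L] (E : IntermediateField K L) {x : L} (h : ∀ τ ∈ E.fixingSubgroup, τ x = x) : x ∈ E := by
  rw [← InfiniteGalois.fixedField_fixingSubgroup E]
  exact fun τ => h τ τ.2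

theorem h90_mul [IsSepClosure K L] (a : (L ≃ₐ[K] L) → Lˣ)
    (ha : ∀ σ τ : L ≃ₐ[K] L, a (σ * τ) = a σ * σ • a τ) (hlc : IsLocallyConstant a) :
    ∃ c : Lˣ, ∀ σ : L ≃ₐ[K] L, a σ = c⁻¹ * σ • c := by
  haveI : IsGalois K L := IsSepClosure.isGalois
  obtain ⟨E, hfd, hgal, htriv⟩ := exists_finite_galois_level K L a hlc
  have h1 : a 1 = 1 := by
    have := ha 1 1
    rw [one_mul, one_smul, left_eq_mul] at this
    exact this
  have hT : ∀ τ ∈ E.fixingSubgroup, a τ = 1 := fun τ hτ => (htriv τ hτ).trans h1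
  let r := AlgEquiv.restrictNormalHom (F := K) (K₁ := L) E
  have hker : ∀ τ, r τ = 1 ↔ τ ∈ E.fixingSubgroup := fun τ => by
    rw [← MonoidHom.mem_ker, IntermediateField.restrictNormalHom_ker]
  have hright : ∀ σ τ, r σ = r τ → a σ = a τ := by
    intro σ τ h
    have h2 : σ⁻¹ * τ ∈ E.fixingSubgroup := (hker _).mp (by rw [map_mul, map_inv, h, inv_mul_cancel])
    conv_rhs => rw [show τ = σ * (σ⁻¹ * τ) by group, ha, hT _ h2, smul_one, mul_one]
  have hfix : ∀ σ, ∀ τ ∈ E.fixingSubgroup, τ • a σ = a σ := by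
    intro σ τ hτ
    have := ha τ σ
    rw [hT τ hτ, one_mul] at this
    rw [← this]
    exact hright _ _ (by rw [map_mul, (hker τ).mpr hτ, one_mul])
  choose s hs using AlgEquiv.restrictNormalHom_surjective (F := K) (E := L) (K₁ := E)
  let b : (E ≃ₐ[K] E) → Eˣ := fun g => Units.mk0 ⟨((a (s g) : Lˣ) : L), mem_of_fixed K L E fun τ hτ => congrArg Units.val (hfix (s g) τ hτ)⟩
    (fun h => (a (s g)).ne_zero (congrArg Subtype.val h))
  have hact : ∀ (σ : L ≃ₐ[K] L) (e : E), ((r σ e : E) : L) = σ (e : L) := fun σ e => AlgEquiv.restrictNormalHom_apply E σ e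
  have hcoc : groupCohomology.IsMulCocycle₁ b := by
    intro g h
    apply Units.ext; apply Subtype.ext
    show ((a (s (g * h)) : Lˣ) : L) = ((g (b h : E) : E) : L) * ((a (s g) : Lˣ) : L)
    rw [hright (s (g * h)) (s g * s h) (by rw [hs, map_mul, hs, hs]), ha, Units.val_mul, mul_comm]
    congr 1
    conv_rhs => rw [← hs g, hact]
    rfl
  obtain ⟨c, hc⟩ := groupCohomology.isMulCoboundary₁_of_isMulCocycle₁_of_aut_to_units b hcoc
  refine ⟨Units.map E.val.toMonoidHom c, fun σ => ?_⟩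
  have h2 := hc (r σ)
  rw [div_eq_iff_eq_mul] at h2
  have h3 := congrArg (fun u : Eˣ => ((u : E) : L)) h2
  have h3' : σ ((c : E) : L) = ((a σ : Lˣ) : L) * ((c : E) : L) := by
    rw [hright σ (s (r σ)) (hs _).symm, ← hact]
    exact h3
  rw [eq_inv_mul_iff_mul_eq]
  apply Units.ext
  show ((c : E) : L) * ((a σ : Lˣ) : L) = σ ((c : E) : L)
  rw [h3', mul_comm]

theorem h90_add [IsSepClosure K L] (a : (L ≃ₐ[K] L) → L)
    (ha : ∀ σ τ : L ≃ₐ[K] L, a (σ * τ) = a σ + σ (a τ)) (hlc : IsLocallyConstant a) :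
    ∃ y : L, ∀ σ : L ≃ₐ[K] L, a σ = σ y - y := by
  classical
  haveI : IsGalois K L := IsSepClosure.isGalois
  obtain ⟨E, hfd, hgal, htriv⟩ := exists_finite_galois_level K L a hlc
  have h1 : a 1 = 0 := by
    have := ha 1 1
    rw [one_mul, AlgEquiv.one_apply, left_eq_add] at this
    exact this
  let r := AlgEquiv.restrictNormalHom (F := K) (K₁ := L) E
  have hker : ∀ τ, r τ = 1 ↔ τ ∈ E.fixingSubgroup := fun τ => by
    rw [← MonoidHom.mem_ker, IntermediateField.restrictNormalHom_ker]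
  have hT : ∀ τ, r τ = 1 → a τ = 0 := fun τ hτ => (htriv τ ((hker τ).mp hτ)).trans h1
  have hright : ∀ σ τ, r σ = r τ → a σ = a τ := by
    intro σ τ h
    conv_rhs => rw [show τ = σ * (σ⁻¹ * τ) by group, ha, hT (σ⁻¹ * τ) (by rw [map_mul, map_inv, h, inv_mul_cancel]), map_zero, add_zero]
  choose s hs using AlgEquiv.restrictNormalHom_surjective (F := K) (E := L) (K₁ := E)
  have hact : ∀ (σ : L ≃ₐ[K] L) (e : E), ((r σ e : E) : L) = σ (e : L) := fun σ e => AlgEquiv.restrictNormalHom_apply E σ e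
  obtain ⟨θ, hθ⟩ : ∃ θ : E, Algebra.trace K E θ = 1 := Algebra.trace_surjective K E 1
  have hsum : ∑ g : E ≃ₐ[K] E, ((g θ : E) : L) = 1 := by
    have h2 := congrArg (fun z : E => (z : L)) (trace_eq_sum_automorphisms (K := K) (L := E) θ)
    rw [hθ, map_one] at h2
    simpa using h2.symm
  refine ⟨-∑ g : E ≃ₐ[K] E, a (s g) * ((g θ : E) : L), fun σ => ?_⟩
  rw [map_neg, map_sum]
  have hterm : ∀ g, σ (a (s g) * ((g θ : E) : L)) = (a (s (r σ * g)) - a σ) * (((r σ * g) θ : E) : L) := by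
    intro g
    rw [map_mul, hright (s (r σ * g)) (σ * s g) (by rw [hs, map_mul, hs]), ha, add_sub_cancel_left, AlgEquiv.mul_apply, hact]
  simp only [hterm]
  rw [show ∑ g, (a (s (r σ * g)) - a σ) * (((r σ * g) θ : E) : L) = ∑ g, (a (s g) - a σ) * ((g θ : E) : L) from Equiv.sum_comp (Equiv.mulLeft (r σ)) (fun g => (a (s g) - a σ) * ((g θ : E) : L))]
  simp only [sub_mul, Finset.sum_sub_distrib, ← Finset.mul_sum, hsum, mul_one]
  ring

end Groth.Agent.H90c8
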